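import Groth.Prelude.Def_Red2
import Mathlib.AlgebraicGeometry.Group.Affine
import Mathlib.LinearAlgebra.SymmetricAlgebra.Basis

/-!
# Points of the additive group

`Red.gaFn : (X ⟶ Red.Ga S) → Γ(X.left, ⊤)` is a natural isomorphism of groups.
-/

set_option autoImplicit false

universe u

open CategoryTheory CategoryTheory.Limits MonoidalCategory CartesianMonoidalCategory MonObj AlgebraicGeometry

namespace Groth.Agent.GaPts

theorem homEquiv_mul {S S' : Scheme.{u}} (f : S' ⟶ S) {G : Over S} [GrpObj G] {X : Over S'}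
    (x y : (Over.map f).obj X ⟶ G) :
    (Over.mapPullbackAdj f).homEquiv X G (x * y) =
      (Over.mapPullbackAdj f).homEquiv X G x * (Over.mapPullbackAdj f).homEquiv X G y := by
  simp only [Adjunction.homEquiv_unit]
  rw [← MonObj.comp_mul]
  exact congrArg _ (map_mul (Over.pullback f).homMonoidHom x y)

/-- the integers in the universe `u` -/
abbrev Z0 : Type u := ULift.{u} ℤ

/-- the coordinate ring of `𝔾ₐ` over the integers -/
abbrev A0 : Type u := SymmetricAlgebra (ULift.{u} ℤ) (ULift.{u} ℤ)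

theorem algebraMap_unique {R : Type u} [CommRing R] (f g : Z0.{u} →+* R) : f = g := by
  refine RingHom.ext fun a => ?_
  obtain ⟨a⟩ := a
  have h : (ULift.up a : Z0.{u}) = (a : Z0.{u}) := rfl
  rw [h, map_intCast, map_intCast]

attribute [-instance] ULift.module

noncomputable local instance algΓ (Z : Scheme.{u}) : Algebra Z0.{u} ↑Γ(Z, ⊤) :=
  ((Int.castRingHom _).comp ULift.ringEquiv.toRingHom).toAlgebra

theorem homEquiv_symm_mul {S S' : Scheme.{u}} (f : S' ⟶ S) {G : Over S} [GrpObj G] {X : Over S'}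
    (x y : X ⟶ (Over.pullback f).obj G) :
    ((Over.mapPullbackAdj f).homEquiv X G).symm (x * y) =
      ((Over.mapPullbackAdj f).homEquiv X G).symm x * ((Over.mapPullbackAdj f).homEquiv X G).symm y := by
  apply ((Over.mapPullbackAdj f).homEquiv X G).injective
  rw [Equiv.apply_symm_apply, homEquiv_mul, Equiv.apply_symm_apply, Equiv.apply_symm_apply]

/-- The canonical map to the spectrum of the global functions, over `Spec ℤ`. -/
noncomputable def toSpec (Z : Over (Spec (CommRingCat.of Z0.{u}))) :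
    Z ⟶ (Spec (CommRingCat.of ↑Γ(Z.left, ⊤))).asOver (Spec (CommRingCat.of Z0.{u})) :=
  Over.homMk Z.left.toSpecΓ (specULiftZIsTerminal.hom_ext _ _)

/-- The point attached to a map of algebras. -/
noncomputable def specPt (Z : Over (Spec (CommRingCat.of Z0.{u})))
    (q : WithConv (A0.{u} →ₐ[Z0.{u}] ↑Γ(Z.left, ⊤))) : Z ⟶ Red.GaZ.{u} :=
  toSpec Z ≫ Spec.mapMulEquiv q

theorem appTop_gaCoord_specPt (Z : Over (Spec (CommRingCat.of Z0.{u})))
    (q : WithConv (A0.{u} →ₐ[Z0.{u}] ↑Γ(Z.left, ⊤))) :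
    (specPt Z q).left.appTop Red.gaCoord =
      q.ofConv (SymmetricAlgebra.ι Z0.{u} Z0.{u} (ULift.up 1)) := by
  show (Z.left.toSpecΓ ≫ Spec.map (CommRingCat.ofHom q.ofConv.toRingHom)).appTop
    ((Scheme.ΓSpecIso (CommRingCat.of A0.{u})).inv _) = _
  rw [← CategoryTheory.comp_apply, Scheme.Hom.comp_appTop, ← Category.assoc,
    ← Scheme.ΓSpecIso_inv_naturality, Category.assoc, Scheme.toSpecΓ_appTop]
  simp

theorem toSpecΓ_comp_eq (Z : Scheme.{u}) {A : CommRingCat.{u}} (f : Z ⟶ Spec A) :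
    Z.toSpecΓ ≫ Spec.map ((Scheme.ΓSpecIso A).inv ≫ f.appTop) = f := by
  rw [Spec.map_comp, ← Category.assoc, ← Scheme.toSpecΓ_naturality, Category.assoc, ← SpecMap_ΓSpecIso_hom,
    ← Spec.map_comp, Iso.inv_hom_id, Spec.map_id, Category.comp_id]

theorem exists_specPt (Z : Over (Spec (CommRingCat.of Z0.{u}))) (z : Z ⟶ Red.GaZ.{u}) :
    ∃ q, specPt Z q = z := by
  let ψ : CommRingCat.of A0.{u} ⟶ Γ(Z.left, ⊤) := (Scheme.ΓSpecIso (CommRingCat.of A0.{u})).inv ≫ z.left.appTop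
  refine ⟨WithConv.toConv (AlgHom.mk ψ.hom fun r =>
    RingHom.congr_fun (algebraMap_unique (ψ.hom.comp (algebraMap Z0.{u} A0.{u})) (algebraMap Z0.{u} _)) r), ?_⟩
  apply Over.OverMorphism.ext
  show Z.left.toSpecΓ ≫ Spec.map ψ = z.left
  exact toSpecΓ_comp_eq Z.left z.left

theorem appTop_gaCoord_mul (Z : Over (Spec (CommRingCat.of Z0.{u}))) (z w : Z ⟶ Red.GaZ.{u}) :
    (z * w).left.appTop Red.gaCoord = z.left.appTop Red.gaCoord + w.left.appTop Red.gaCoord := by
  obtain ⟨a, rfl⟩ := exists_specPt Z z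
  obtain ⟨b, rfl⟩ := exists_specPt Z w
  have h : specPt Z a * specPt Z b = specPt Z (a * b) := by
    unfold specPt
    rw [map_mul, MonObj.comp_mul]
  rw [h, appTop_gaCoord_specPt, appTop_gaCoord_specPt, appTop_gaCoord_specPt, AlgHom.convMul_apply]
  simp

theorem gaFn_eq {S : Scheme.{u}} {X : Over S} (x : X ⟶ Red.Ga S) :
    Red.gaFn x =
      (((Over.mapPullbackAdj (IsTerminal.from specULiftZIsTerminal S)).homEquiv X Red.GaZ).symm x).left.appTop
        Red.gaCoord := by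
  simp [Red.gaFn, Adjunction.homEquiv_counit]

theorem gaFn_mul {S : Scheme.{u}} {X : Over S} (x y : X ⟶ Red.Ga S) :
    Red.gaFn (x * y) = Red.gaFn x + Red.gaFn y := by
  rw [gaFn_eq, gaFn_eq, gaFn_eq, homEquiv_symm_mul (IsTerminal.from specULiftZIsTerminal S) x y]
  exact appTop_gaCoord_mul _ _ _

theorem gaFn_one {S : Scheme.{u}} {X : Over S} : Red.gaFn (1 : X ⟶ Red.Ga S) = 0 := by
  have h := gaFn_mul (1 : X ⟶ Red.Ga S) 1
  have e1 : (1 : X ⟶ Red.Ga S) * 1 = 1 := _root_.mul_one (M := X ⟶ Red.Ga S) 1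
  rw [e1] at h
  simpa using h

theorem gaFn_comp {S : Scheme.{u}} {X Y : Over S} (g : Y ⟶ X) (x : X ⟶ Red.Ga S) :
    Red.gaFn (g ≫ x) = g.left.appTop (Red.gaFn x) := by
  simp [Red.gaFn]

theorem gaFn_injective {S : Scheme.{u}} (X : Over S) :
    Function.Injective (Red.gaFn : (X ⟶ Red.Ga S) → _) := by
  intro x y hxy
  set e := (Over.mapPullbackAdj (IsTerminal.from specULiftZIsTerminal S)).homEquiv X Red.GaZ.{u}
  apply e.symm.injective
  rw [gaFn_eq, gaFn_eq] at hxy
  obtain ⟨a, ha⟩ := exists_specPt _ (e.symm x)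
  obtain ⟨b, hb⟩ := exists_specPt _ (e.symm y)
  rw [← ha, ← hb, appTop_gaCoord_specPt, appTop_gaCoord_specPt] at hxy
  rw [← ha, ← hb]
  congr 1
  refine congrArg WithConv.toConv (SymmetricAlgebra.algHom_ext (LinearMap.ext_ring ?_))
  exact hxy

theorem gaFn_surjective {S : Scheme.{u}} (X : Over S) :
    Function.Surjective (Red.gaFn : (X ⟶ Red.Ga S) → _) := by
  intro a
  let g := IsTerminal.from specULiftZIsTerminal S
  let Z := (Over.map g).obj X
  let q : A0.{u} →ₐ[Z0.{u}] ↑Γ(Z.left, ⊤) := SymmetricAlgebra.lift (LinearMap.toSpanSingleton Z0.{u} _ a)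
  refine ⟨(Over.mapPullbackAdj g).homEquiv X Red.GaZ.{u} (specPt Z (WithConv.toConv q)), ?_⟩
  rw [gaFn_eq, Equiv.symm_apply_apply, appTop_gaCoord_specPt]
  show SymmetricAlgebra.lift (LinearMap.toSpanSingleton Z0.{u} _ a) (SymmetricAlgebra.ι Z0.{u} Z0.{u} (ULift.up 1)) = a
  rw [SymmetricAlgebra.lift_ι_apply, LinearMap.toSpanSingleton_apply]
  rw [Algebra.smul_def, show (ULift.up 1 : Z0.{u}) = 1 from rfl, map_one, _root_.one_mul]

end Groth.Agent.GaPts
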